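import Groth.Agent.FinGrpdLib.Cancel
import Groth.Agent.FinGrpdLib.Field
import Groth.Agent.GeomIrred.Scheme

/-!
Irreducibility near a point of a groupoid scheme on the spectrum of a field: two generisations of a point have a
common generisation.
-/

set_option autoImplicit false
set_option backward.isDefEq.respectTransparency false
universe u

open CategoryTheory CategoryTheory.Limits AlgebraicGeometry

noncomputable section

namespace Groth.Agent.GrpdIrred

open FinGrpdLib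

/-- Any two generisations of `x` have a common generisation. -/
def GenDir {X : Scheme.{u}} (x : X) : Prop := ∀ ⦃ξ₁ ξ₂ : X⦄, ξ₁ ⤳ x → ξ₂ ⤳ x → ∃ ω, ω ⤳ ξ₁ ∧ ω ⤳ ξ₂

theorem GenDir.map {X Y : Scheme.{u}} (f : X ⟶ Y) [Flat f] {x : X} (h : GenDir x) : GenDir (f x) := by
  intro ξ₁ ξ₂ h₁ h₂
  obtain ⟨η₁, hη₁, hp₁⟩ := Flat.generalizingMap f h₁
  obtain ⟨η₂, hη₂, hp₂⟩ := Flat.generalizingMap f h₂
  obtain ⟨ω, hω₁, hω₂⟩ := h hη₁ hη₂
  exact ⟨f ω, hp₁ ▸ hω₁.map f.continuous, hp₂ ▸ hω₂.map f.continuous⟩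

theorem GenDir.minimalPrimes_subsingleton {X : Scheme.{u}} {x : X} (h : GenDir x) :
    (minimalPrimes (X.presheaf.stalk x)).Subsingleton := by
  intro q₁ hq₁ q₂ hq₂
  let j := X.fromSpecStalk x
  let P₁ : Spec (X.presheaf.stalk x) := (⟨q₁, hq₁.1.1⟩ : PrimeSpectrum (X.presheaf.stalk x))
  let P₂ : Spec (X.presheaf.stalk x) := (⟨q₂, hq₂.1.1⟩ : PrimeSpectrum (X.presheaf.stalk x))
  have hle : ∀ p' : Spec (X.presheaf.stalk x), j p' ⤳ x := fun p' =>
    (Scheme.range_fromSpecStalk (x := x)).le ⟨p', rfl⟩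
  obtain ⟨ω, hω₁, hω₂⟩ := h (hle P₁) (hle P₂)
  obtain ⟨P, rfl⟩ := (Scheme.range_fromSpecStalk (x := x)).ge (hω₁.trans (hle P₁))
  have l₁ : (P : PrimeSpectrum (X.presheaf.stalk x)).asIdeal ≤ q₁ :=
    (PrimeSpectrum.le_iff_specializes P P₁).mpr (j.isEmbedding.isInducing.specializes_iff.mp hω₁)
  have l₂ : (P : PrimeSpectrum (X.presheaf.stalk x)).asIdeal ≤ q₂ :=
    (PrimeSpectrum.le_iff_specializes P P₂).mpr (j.isEmbedding.isInducing.specializes_iff.mp hω₂)
  have hP : (P : PrimeSpectrum (X.presheaf.stalk x)).asIdeal.IsPrime := PrimeSpectrum.isPrime _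
  exact ((le_antisymm (hq₁.2 ⟨hP, bot_le⟩ l₁) l₁)).trans (le_antisymm (hq₂.2 ⟨hP, bot_le⟩ l₂) l₂).symm

theorem GenDir.existsUnique_component {X : Scheme.{u}} {x : X} (h : GenDir x) :
    ∃! Z : Set X, Z ∈ irreducibleComponents (X : Type u) ∧ x ∈ Z := by
  refine ⟨irreducibleComponent x, ⟨irreducibleComponent_mem_irreducibleComponents x, mem_irreducibleComponent⟩, ?_⟩
  rintro Z ⟨hZ, hxZ⟩
  obtain ⟨ξ, hξ⟩ := QuasiSober.sober hZ.1 (isClosed_of_mem_irreducibleComponents _ hZ)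
  obtain ⟨ξ', hξ'⟩ := QuasiSober.sober (isIrreducible_irreducibleComponent (x := x)) isClosed_irreducibleComponent
  obtain ⟨ω, hω, hω'⟩ := h (hξ.specializes hxZ) (hξ'.specializes mem_irreducibleComponent)
  have e : Z = closure {ω} := Set.Subset.antisymm (hξ.def ▸ hω.closure_subset)
    (hZ.2 isIrreducible_singleton.closure (hξ.def ▸ hω.closure_subset))
  have e' : irreducibleComponent x = closure {ω} := Set.Subset.antisymm (hξ'.def ▸ hω'.closure_subset)
    ((irreducibleComponent_mem_irreducibleComponents x).2 isIrreducible_singleton.closure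
      (hξ'.def ▸ hω'.closure_subset))
  rw [e, e']

theorem flat_to_field {Ω : Type u} [Field Ω] {X : Scheme.{u}} (f : X ⟶ Spec (CommRingCat.of Ω)) : Flat f := by
  infer_instance

/-- A unital multiplication over a separably closed field. -/
theorem genDir_of_unital {Ω : Type u} [Field Ω] [IsSepClosed Ω] {X : Scheme.{u}}
    (σ τ : X ⟶ Spec (CommRingCat.of Ω)) (e : Spec (CommRingCat.of Ω) ⟶ X) (hσ : e ≫ σ = 𝟙 _) (hτ : e ≫ τ = 𝟙 _)
    (μ : pullback σ τ ⟶ X)
    (h1 : pullback.lift (𝟙 X) (σ ≫ e) (by rw [Category.assoc, hτ, Category.comp_id, Category.id_comp]) ≫ μ = 𝟙 X)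
    (h2 : pullback.lift (τ ≫ e) (𝟙 X) (by rw [Category.assoc, hσ, Category.comp_id, Category.id_comp]) ≫ μ = 𝟙 X) :
    GenDir (e (IsLocalRing.closedPoint Ω)) := by
  intro ξ₁ ξ₂ h₁ h₂
  let ρ₁ := X.fromSpecResidueField ξ₁
  let ρ₂ := X.fromSpecResidueField ξ₂
  haveI : IrreducibleSpace ↥(Spec (X.residueField ξ₁)) := inferInstance
  haveI : IrreducibleSpace ↥(Spec (X.residueField ξ₂)) := inferInstance
  haveI := GeomIrred.geometricallyIrreducible_of_irreducibleSpace (ρ₁ ≫ σ)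
  haveI : IrreducibleSpace ↥(pullback (ρ₁ ≫ σ) (ρ₂ ≫ τ)) := inferInstance
  let a : pullback (ρ₁ ≫ σ) (ρ₂ ≫ τ) ⟶ X :=
    pullback.map (ρ₁ ≫ σ) (ρ₂ ≫ τ) σ τ ρ₁ ρ₂ (𝟙 _) (by simp) (by simp) ≫ μ
  obtain ⟨ω₀, hω₀⟩ :=
    QuasiSober.sober (IrreducibleSpace.isIrreducible_univ ↥(pullback (ρ₁ ≫ σ) (ρ₂ ≫ τ))) isClosed_univ
  refine ⟨a ω₀, ?_, ?_⟩
  · let M : pullback (ρ₁ ≫ σ) τ ⟶ X := pullback.map (ρ₁ ≫ σ) τ σ τ ρ₁ (𝟙 _) (𝟙 _) (by simp) (by simp) ≫ μ
    let t : Spec (X.residueField ξ₁) := IsLocalRing.closedPoint (X.residueField ξ₁)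
    let s : Spec (X.residueField ξ₁) ⟶ pullback (ρ₁ ≫ σ) τ :=
      pullback.lift (𝟙 _) ((ρ₁ ≫ σ) ≫ e) (by rw [Category.assoc, hτ, Category.comp_id, Category.id_comp])
    have hs : s ≫ M = ρ₁ := by
      have : s ≫ pullback.map (ρ₁ ≫ σ) τ σ τ ρ₁ (𝟙 _) (𝟙 _) (by simp) (by simp) =
          ρ₁ ≫ pullback.lift (𝟙 X) (σ ≫ e) (by rw [Category.assoc, hτ, Category.comp_id, Category.id_comp]) := by
        apply pullback.hom_ext <;> simp [s, pullback.map]
        all_goals exact Category.id_comp _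
      calc s ≫ M = (ρ₁ ≫ pullback.lift (𝟙 X) (σ ≫ e) _) ≫ μ := by rw [← this, Category.assoc]
        _ = ρ₁ := by rw [Category.assoc, h1, Category.comp_id]
    haveI := flat_to_field (ρ₁ ≫ σ)
    have hw : pullback.snd (ρ₁ ≫ σ) τ (s t) = e (IsLocalRing.closedPoint Ω) := by
      rw [← Scheme.Hom.comp_apply, pullback.lift_snd, Scheme.Hom.comp_apply]
      congr 1
      exact Subsingleton.elim (α := PrimeSpectrum Ω) _ _
    obtain ⟨w', hw', hw'2⟩ := Flat.generalizingMap (pullback.snd (ρ₁ ≫ σ) τ) (hw ▸ h₂)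
    obtain ⟨z, hz⟩ : w' ∈ Set.range (pullback.map (ρ₁ ≫ σ) (ρ₂ ≫ τ) (ρ₁ ≫ σ) τ (𝟙 _) ρ₂ (𝟙 _)
        (by simp) (by simp)) := by
      rw [Scheme.Pullback.range_map]
      exact ⟨⟨_, rfl⟩, by rw [Set.mem_preimage, Scheme.range_fromSpecResidueField]; exact hw'2⟩
    have hza : pullback.map (ρ₁ ≫ σ) (ρ₂ ≫ τ) (ρ₁ ≫ σ) τ (𝟙 _) ρ₂ (𝟙 _) (by simp) (by simp) ≫ M = a := by
      simp only [M, a, ← Category.assoc]
      congr 1
      apply pullback.hom_ext <;> simp [pullback.map]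
    have h3 : a z ⤳ ξ₁ := by
      have h4 := hw'.map M.continuous
      rw [← hz, ← Scheme.Hom.comp_apply, hza, ← Scheme.Hom.comp_apply, hs, Scheme.fromSpecResidueField_apply] at h4
      exact h4
    exact ((hω₀.specializes (Set.mem_univ z)).map a.continuous).trans h3
  · let M : pullback σ (ρ₂ ≫ τ) ⟶ X := pullback.map σ (ρ₂ ≫ τ) σ τ (𝟙 _) ρ₂ (𝟙 _) (by simp) (by simp) ≫ μ
    let t : Spec (X.residueField ξ₂) := IsLocalRing.closedPoint (X.residueField ξ₂)
    let s : Spec (X.residueField ξ₂) ⟶ pullback σ (ρ₂ ≫ τ) :=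
      pullback.lift ((ρ₂ ≫ τ) ≫ e) (𝟙 _) (by rw [Category.assoc, hσ, Category.comp_id, Category.id_comp])
    have hs : s ≫ M = ρ₂ := by
      have : s ≫ pullback.map σ (ρ₂ ≫ τ) σ τ (𝟙 _) ρ₂ (𝟙 _) (by simp) (by simp) =
          ρ₂ ≫ pullback.lift (τ ≫ e) (𝟙 X) (by rw [Category.assoc, hσ, Category.comp_id, Category.id_comp]) := by
        apply pullback.hom_ext <;> simp [s, pullback.map]
        all_goals exact Category.id_comp _
      calc s ≫ M = (ρ₂ ≫ pullback.lift (τ ≫ e) (𝟙 X) _) ≫ μ := by rw [← this, Category.assoc]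
        _ = ρ₂ := by rw [Category.assoc, h2, Category.comp_id]
    haveI := flat_to_field (ρ₂ ≫ τ)
    have hw : pullback.fst σ (ρ₂ ≫ τ) (s t) = e (IsLocalRing.closedPoint Ω) := by
      rw [← Scheme.Hom.comp_apply, pullback.lift_fst, Scheme.Hom.comp_apply]
      congr 1
      exact Subsingleton.elim (α := PrimeSpectrum Ω) _ _
    obtain ⟨w', hw', hw'2⟩ := Flat.generalizingMap (pullback.fst σ (ρ₂ ≫ τ)) (hw ▸ h₁)
    obtain ⟨z, hz⟩ : w' ∈ Set.range (pullback.map (ρ₁ ≫ σ) (ρ₂ ≫ τ) σ (ρ₂ ≫ τ) ρ₁ (𝟙 _) (𝟙 _)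
        (by simp) (by simp)) := by
      rw [Scheme.Pullback.range_map]
      exact ⟨by rw [Set.mem_preimage, Scheme.range_fromSpecResidueField]; exact hw'2, ⟨_, rfl⟩⟩
    have hza : pullback.map (ρ₁ ≫ σ) (ρ₂ ≫ τ) σ (ρ₂ ≫ τ) ρ₁ (𝟙 _) (𝟙 _) (by simp) (by simp) ≫ M = a := by
      simp only [M, a, ← Category.assoc]
      congr 1
      apply pullback.hom_ext <;> simp [pullback.map]
    have h3 : a z ⤳ ξ₂ := by
      have h4 := hw'.map M.continuous
      rw [← hz, ← Scheme.Hom.comp_apply, hza, ← Scheme.Hom.comp_apply, hs, Scheme.fromSpecResidueField_apply] at h4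
      exact h4
    exact ((hω₀.specializes (Set.mem_univ z)).map a.continuous).trans h3

variable {S : Scheme.{u}} (G : Grpd.GroupoidScheme S) {k : Type u} [Field k]

include k in
theorem flat_to_U (eU : G.U ≅ Spec (CommRingCat.of k)) {X : Scheme.{u}} (f : X ⟶ G.U) : Flat f := by
  haveI := flat_to_field (f ≫ eU.hom)
  exact (MorphismProperty.cancel_right_of_respectsIso @Flat f eU.hom).1 ‹_›

/-- At the identity of a geometric source fibre. -/
theorem genDir_fibre_identity (eU : G.U ≅ Spec (CommRingCat.of k)) {Ω : Type u} [Field Ω] [IsSepClosed Ω]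
    (φ : Spec (CommRingCat.of Ω) ⟶ G.U) :
    GenDir ((pullback.lift (φ ≫ G.e) (𝟙 _) (by rw [Category.assoc, G.e_s, Category.comp_id, Category.id_comp]) :
      Spec (CommRingCat.of Ω) ⟶ pullback G.s φ) (IsLocalRing.closedPoint Ω)) := by
  haveI := flat_to_U G eU φ
  let P := pullback.fst G.s φ ≫ G.t
  let R' := pullback P φ
  let σ : R' ⟶ Spec (CommRingCat.of Ω) := pullback.fst P φ ≫ pullback.snd G.s φ
  let τ : R' ⟶ Spec (CommRingCat.of Ω) := pullback.snd P φ
  let e₁ : Spec (CommRingCat.of Ω) ⟶ pullback G.s φ :=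
    pullback.lift (φ ≫ G.e) (𝟙 _) (by rw [Category.assoc, G.e_s, Category.comp_id, Category.id_comp])
  let e : Spec (CommRingCat.of Ω) ⟶ R' := pullback.lift e₁ (𝟙 _) (by
    simp only [P, e₁, pullback.lift_fst_assoc, Category.assoc, G.e_t, Category.comp_id, Category.id_comp])
  let q : R' ⟶ G.R := pullback.fst P φ ≫ pullback.fst G.s φ
  have hqs : q ≫ G.s = σ ≫ φ := by simp only [q, σ, Category.assoc, pullback.condition]
  have hqt : q ≫ G.t = τ ≫ φ := by
    have := pullback.condition (f := P) (g := φ)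
    simpa only [q, τ, P, Category.assoc] using this
  have hσ : e ≫ σ = 𝟙 _ := by simp [e, σ, e₁]
  have hτ : e ≫ τ = 𝟙 _ := by simp [e, τ]
  have heq : e ≫ q = φ ≫ G.e := by simp [e, q, e₁]
  have hab : (pullback.fst σ τ ≫ q) ≫ G.s = (pullback.snd σ τ ≫ q) ≫ G.t := by
    calc (pullback.fst σ τ ≫ q) ≫ G.s = pullback.fst σ τ ≫ σ ≫ φ := (Category.assoc _ _ _).trans (congrArg (_ ≫ ·) hqs)
      _ = pullback.snd σ τ ≫ τ ≫ φ := pullback.condition_assoc φ
      _ = (pullback.snd σ τ ≫ q) ≫ G.t := ((Category.assoc _ _ _).trans (congrArg (_ ≫ ·) hqt)).symm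
  let m := mul G (pullback.fst σ τ ≫ q) (pullback.snd σ τ ≫ q) hab
  have hms : m ≫ G.s = (pullback.snd σ τ ≫ σ) ≫ φ :=
    (mul_s hab).trans ((Category.assoc _ _ _).trans ((congrArg (_ ≫ ·) hqs).trans (Category.assoc _ _ _).symm))
  have hmt : (pullback.lift m (pullback.snd σ τ ≫ σ) hms) ≫ P = (pullback.fst σ τ ≫ τ) ≫ φ := by
    rw [show (pullback.lift m (pullback.snd σ τ ≫ σ) hms) ≫ P = m ≫ G.t from pullback.lift_fst_assoc _ _ _ _,
      mul_t]
    exact (Category.assoc _ _ _).trans ((congrArg (_ ≫ ·) hqt).trans (Category.assoc _ _ _).symm)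
  let μ : pullback σ τ ⟶ R' := pullback.lift (pullback.lift m (pullback.snd σ τ ≫ σ) hms) (pullback.fst σ τ ≫ τ) hmt
  have hμq : μ ≫ q = m := by simp [μ, q]
  have hμσ : μ ≫ σ = pullback.snd σ τ ≫ σ := by simp [μ, σ]
  have hμτ : μ ≫ τ = pullback.fst σ τ ≫ τ := by simp [μ, τ]
  have hext : ∀ {T : Scheme.{u}} (f g : T ⟶ R'), f ≫ q = g ≫ q → f ≫ σ = g ≫ σ → f ≫ τ = g ≫ τ → f = g := by
    intro T f g h1 h2 h3
    apply pullback.hom_ext _ h3
    apply pullback.hom_ext
    · simpa only [Category.assoc] using h1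
    · simpa only [Category.assoc] using h2
  have hμ1 : pullback.lift (𝟙 R') (σ ≫ e) (by rw [Category.assoc, hτ, Category.comp_id, Category.id_comp]) ≫ μ =
      𝟙 R' := by
    apply hext
    · rw [Category.assoc, hμq, Category.id_comp q, comp_mul]
      refine (mul_congr (by rw [pullback.lift_fst_assoc, Category.id_comp])
        (show _ = q ≫ G.s ≫ G.e by rw [pullback.lift_snd_assoc, Category.assoc, heq, reassoc_of% hqs]) _).trans
        (G.comp_e q)
    · refine (Category.assoc _ _ _).trans ((congrArg (_ ≫ ·) hμσ).trans ?_)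
      refine (pullback.lift_snd_assoc _ _ _ _).trans ?_
      exact ((Category.assoc _ _ _).trans (congrArg (σ ≫ ·) hσ)).trans ((Category.comp_id σ).trans (Category.id_comp σ).symm)
    · exact (Category.assoc _ _ _).trans ((congrArg (_ ≫ ·) hμτ).trans (pullback.lift_fst_assoc _ _ _ _))
  have hμ2 : pullback.lift (τ ≫ e) (𝟙 R') (by rw [Category.assoc, hσ, Category.comp_id, Category.id_comp]) ≫ μ =
      𝟙 R' := by
    apply hext
    · rw [Category.assoc, hμq, Category.id_comp q, comp_mul]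
      refine (mul_congr (show _ = q ≫ G.t ≫ G.e by
          rw [pullback.lift_fst_assoc, Category.assoc, heq, reassoc_of% hqt])
        (by rw [pullback.lift_snd_assoc, Category.id_comp]) _).trans (G.e_comp q)
    · exact (Category.assoc _ _ _).trans ((congrArg (_ ≫ ·) hμσ).trans (pullback.lift_snd_assoc _ _ _ _))
    · refine (Category.assoc _ _ _).trans ((congrArg (_ ≫ ·) hμτ).trans ?_)
      refine (pullback.lift_fst_assoc _ _ _ _).trans ?_
      exact ((Category.assoc _ _ _).trans (congrArg (τ ≫ ·) hτ)).trans ((Category.comp_id τ).trans (Category.id_comp τ).symm)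
  have h := GenDir.map (pullback.fst P φ) (genDir_of_unital σ τ e hσ hτ μ hμ1 hμ2)
  rw [← Scheme.Hom.comp_apply, pullback.lift_fst] at h
  exact h

/-- Two generisations of the identity point have a common one. -/
theorem genDir_identity (eU : G.U ≅ Spec (CommRingCat.of k)) : GenDir (G.e (eU.inv (IsLocalRing.closedPoint k))) := by
  let φ : Spec (CommRingCat.of (AlgebraicClosure k)) ⟶ G.U :=
    Spec.map (CommRingCat.ofHom (algebraMap k (AlgebraicClosure k))) ≫ eU.inv
  haveI := flat_to_U G eU φ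
  obtain ⟨_, _⟩ := point_props eU
  have h := GenDir.map (pullback.fst G.s φ) (genDir_fibre_identity G eU φ)
  rw [← Scheme.Hom.comp_apply, pullback.lift_fst, Scheme.Hom.comp_apply] at h
  convert! h using 2

/-- Two generisations of any point have a common one. -/
theorem genDir (eU : G.U ≅ Spec (CommRingCat.of k)) (r : G.R) : GenDir r := by
  let Ω := AlgebraicClosure (G.R.residueField r)
  obtain ⟨α, hα⟩ : ∃ α : Spec (CommRingCat.of Ω) ⟶ G.R, α (IsLocalRing.closedPoint Ω) = r :=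
    ⟨Spec.map (CommRingCat.ofHom (algebraMap (G.R.residueField r) Ω)) ≫ G.R.fromSpecResidueField r, by
      rw [Scheme.Hom.comp_apply]
      exact Scheme.fromSpecResidueField_apply _ _⟩
  let φs := α ≫ G.s
  let φt := α ≫ G.t
  haveI := flat_to_U G eU φs
  let fs := pullback.fst G.s φs
  let zs := pullback.snd G.s φs
  let ft := pullback.fst G.s φt
  let zt := pullback.snd G.s φt
  have hm : ft ≫ G.s = (zt ≫ α) ≫ G.t := by simp only [ft, zt, φt, pullback.condition, Category.assoc]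
  have hn : fs ≫ G.s = ((zs ≫ α) ≫ G.i) ≫ G.t := by
    simp only [fs, zs, φs, pullback.condition, Category.assoc, G.i_t]
  let m : pullback G.s φt ⟶ pullback G.s φs :=
    pullback.lift (mul G ft (zt ≫ α) hm) zt (by rw [mul_s, Category.assoc])
  let n : pullback G.s φs ⟶ pullback G.s φt :=
    pullback.lift (mul G fs ((zs ≫ α) ≫ G.i) hn) zs (by
      rw [mul_s]; simp only [Category.assoc, G.i_s, φt])
  have cancel : ∀ {T : Scheme.{u}} {x a b : T ⟶ G.R} (h₁ : x ≫ G.s = a ≫ G.t) (h₂ : mul G x a h₁ ≫ G.s = b ≫ G.t)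
      (h₃ : a ≫ G.s = b ≫ G.t), mul G a b h₃ = a ≫ G.t ≫ G.e → mul G (mul G x a h₁) b h₂ = x := by
    intro T x a b h₁ h₂ h₃ hab
    refine (G.assoc x a b h₁ h₃).trans ?_
    change mul G x (mul G a b h₃) (h₁.trans (mul_t h₃).symm) = x
    rw [mul_congr rfl (show mul G a b h₃ = x ≫ G.s ≫ G.e by rw [hab, reassoc_of% h₁])]
    exact G.comp_e x
  have h_mn : m ≫ n = 𝟙 _ := by
    apply pullback.hom_ext
    · have h1 : m ≫ fs = mul G ft (zt ≫ α) hm := pullback.lift_fst _ _ _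
      have h2 : m ≫ (zs ≫ α) ≫ G.i = (zt ≫ α) ≫ G.i := by
        simp only [← Category.assoc]
        rw [show m ≫ zs = zt from pullback.lift_snd _ _ _]
      rw [Category.assoc, pullback.lift_fst, comp_mul, mul_congr h1 h2, Category.id_comp]
      exact cancel hm _ (by rw [Category.assoc, Category.assoc, G.i_t, Category.assoc]) (G.comp_i _)
    · rw [Category.assoc, pullback.lift_snd, pullback.lift_snd, Category.id_comp]
  have h_nm : n ≫ m = 𝟙 _ := by
    apply pullback.hom_ext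
    · have h1 : n ≫ ft = mul G fs ((zs ≫ α) ≫ G.i) hn := pullback.lift_fst _ _ _
      have h2 : n ≫ zt ≫ α = zs ≫ α := by
        rw [← Category.assoc, show n ≫ zt = zs from pullback.lift_snd _ _ _]
      rw [Category.assoc, pullback.lift_fst, comp_mul, mul_congr h1 h2, Category.id_comp]
      refine cancel hn _ (by rw [Category.assoc, G.i_s]) ?_
      refine (G.i_comp _).trans ?_
      simp only [Category.assoc, reassoc_of% G.i_t]
    · rw [Category.assoc, pullback.lift_snd, pullback.lift_snd, Category.id_comp]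
  haveI : IsIso m := ⟨n, h_mn, h_nm⟩
  have h := GenDir.map fs (GenDir.map m (genDir_fibre_identity G eU φt))
  have he : (pullback.lift (φt ≫ G.e) (𝟙 _) (by rw [Category.assoc, G.e_s, Category.comp_id, Category.id_comp]) :
      Spec (CommRingCat.of Ω) ⟶ pullback G.s φt) ≫ m ≫ fs = α := by
    rw [show m ≫ fs = mul G ft (zt ≫ α) hm from pullback.lift_fst _ _ _, comp_mul]
    refine (mul_congr (show _ = α ≫ G.t ≫ G.e by rw [pullback.lift_fst]; simp only [φt, Category.assoc])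
      (show _ = α by rw [pullback.lift_snd_assoc, Category.id_comp]) _).trans (G.e_comp α)
  rw [← Scheme.Hom.comp_apply, ← Scheme.Hom.comp_apply, he, hα] at h
  exact h

end Groth.Agent.GrpdIrred
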