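import Groth.Agent.GrpdIrred.Main

/-! Geometric irreducibility of the component through the identity. -/

set_option autoImplicit false
set_option backward.isDefEq.respectTransparency false
universe u

open CategoryTheory CategoryTheory.Limits AlgebraicGeometry

noncomputable section

namespace Groth.Agent.GrpdIrred

/-- The component through a rational point with the directedness property after extension is geometrically irreducible. -/
theorem geometricallyIrreducible_component {K : Type u} [Field K] {X : Scheme.{u}}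
    (f : X ⟶ Spec (CommRingCat.of K)) (η : Spec (CommRingCat.of K) ⟶ X) (hηw : η ≫ f = 𝟙 _)
    (hdir : GenDir (η (IsLocalRing.closedPoint K)))
    (hdir' : GenDir ((pullback.lift (Spec.map (CommRingCat.ofHom (algebraMap K (AlgebraicClosure K))) ≫ η) (𝟙 _)
      (by rw [Category.assoc, hηw, Category.comp_id, Category.id_comp]) : Spec (CommRingCat.of (AlgebraicClosure K)) ⟶
        pullback f (Spec.map (CommRingCat.ofHom (algebraMap K (AlgebraicClosure K)))))
      (IsLocalRing.closedPoint (AlgebraicClosure K))))
    {Z : Scheme.{u}} (incl : Z ⟶ X) [IsClosedImmersion incl]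
    (hZ : Set.range incl ∈ irreducibleComponents (X : Type u))
    (he : η (IsLocalRing.closedPoint K) ∈ Set.range incl) : GeometricallyIrreducible (incl ≫ f) := by
  let L := AlgebraicClosure K
  let g : Spec (CommRingCat.of L) ⟶ Spec (CommRingCat.of K) := Spec.map (CommRingCat.ofHom (algebraMap K L))
  let p : pullback f g ⟶ X := pullback.fst f g
  haveI := flat_to_field g
  haveI : IsIntegralHom g := by
    rw [IsIntegralHom.SpecMap_iff]
    exact fun y => Algebra.IsIntegral.isIntegral y
  haveI : IsSepClosed L := inferInstance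
  let e : X := η (IsLocalRing.closedPoint K)
  let a : Spec (CommRingCat.of L) ⟶ pullback f g := pullback.lift (g ≫ η) (𝟙 _)
    (by rw [Category.assoc, hηw, Category.comp_id, Category.id_comp])
  let e' : ↥(pullback f g) := a (IsLocalRing.closedPoint L)
  have hfib : ∀ z : ↥(pullback f g), p z = e → z = e' := by
    intro z hz
    have hr : z ∈ Set.range (pullback.map (𝟙 (Spec (CommRingCat.of K))) g f g η (𝟙 _) (𝟙 _)
        (by rw [hηw, Category.comp_id]) (by simp)) := by
      rw [Scheme.Pullback.range_map]
      exact ⟨⟨IsLocalRing.closedPoint K, hz.symm⟩, ⟨_, rfl⟩⟩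
    obtain ⟨w, rfl⟩ := hr
    haveI : Subsingleton ↥(pullback (𝟙 (Spec (CommRingCat.of K))) g) :=
      (pullback.snd (𝟙 (Spec (CommRingCat.of K))) g).homeomorph.injective.subsingleton
    let c : Spec (CommRingCat.of L) ⟶ pullback (𝟙 (Spec (CommRingCat.of K))) g :=
      pullback.lift g (𝟙 _) (by simp)
    have hc : c ≫ pullback.map (𝟙 (Spec (CommRingCat.of K))) g f g η (𝟙 _) (𝟙 _)
        (by rw [hηw, Category.comp_id]) (by simp) = pullback.lift (g ≫ η) (𝟙 _)
        (by rw [Category.assoc, hηw]; exact (Category.comp_id g).trans (Category.id_comp g).symm) := by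
      apply pullback.hom_ext
      · simp only [c, Category.assoc, pullback.lift_fst, pullback.lift_fst_assoc]
      · simp only [c, Category.assoc, pullback.lift_snd, pullback.lift_snd_assoc]
        exact Category.comp_id _
    rw [Subsingleton.elim w (c (IsLocalRing.closedPoint L))]
    exact congrArg (fun m => m (IsLocalRing.closedPoint L)) hc
  have hpe : p e' = e := by
    have h : a ≫ p = g ≫ η := pullback.lift_fst _ _ _
    refine (congrArg (fun m => m (IsLocalRing.closedPoint L)) h).trans ?_
    exact congrArg η (Subsingleton.elim (α := PrimeSpectrum K) _ _)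
  obtain ⟨ξ, hξ⟩ := QuasiSober.sober hZ.1 incl.isClosedEmbedding.isClosed_range
  obtain ⟨ω, hω⟩ := QuasiSober.sober (isIrreducible_irreducibleComponent (x := e')) isClosed_irreducibleComponent
  have hωe : ω ⤳ e' := hω.specializes mem_irreducibleComponent
  have hmax : ∀ ν, ν ⤳ ω → ω ⤳ ν := fun ν hν => hω.specializes
    (((irreducibleComponent_mem_irreducibleComponents e').2 isIrreducible_singleton.closure
      (hω.def ▸ hν.closure_subset)) (subset_closure rfl))
  have hξmax : ∀ ν, ν ⤳ ξ → ξ ⤳ ν := fun ν hν => hξ.specializes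
    ((hZ.2 isIrreducible_singleton.closure (hξ.def ▸ hν.closure_subset)) (subset_closure rfl))
  have hmem : ∀ z : ↥(pullback f g), p z ∈ Set.range incl → ω ⤳ z := by
    intro z hz
    obtain ⟨ν, hν, hpν⟩ := Flat.generalizingMap p (hξ.specializes hz)
    obtain ⟨y, hy, hpy⟩ : e ∈ p '' closure {ν} := by
      have h1 : (closure {ξ} : Set X) ⊆ p '' closure {ν} :=
        closure_minimal (Set.singleton_subset_iff.mpr ⟨ν, subset_closure rfl, hpν⟩)
          (p.isClosedMap _ isClosed_closure)
      exact h1 (hξ.def ▸ he)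
    obtain rfl := hfib y hpy
    obtain ⟨ω', hω'₁, hω'₂⟩ := hdir' (specializes_iff_mem_closure.mpr hy) hωe
    exact ((hmax ω' hω'₂).trans hω'₁).trans hν
  have hωZ : p ω ∈ Set.range incl := by
    have h1 : p ω ⤳ e := hpe ▸ hωe.map p.continuous
    obtain ⟨ν, hν₁, hν₂⟩ := hdir (hξ.specializes he) h1
    exact ((hξmax ν hν₁).trans hν₂).mem_closed incl.isClosedEmbedding.isClosed_range hξ.mem
  let q : pullback (incl ≫ f) g ⟶ pullback f g := pullback.map _ _ _ _ incl (𝟙 _) (𝟙 _) (by simp) (by simp)
  have hqr : Set.range q = p ⁻¹' Set.range incl := by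
    rw [Scheme.Pullback.range_map]
    ext z
    simp [p]
  have hirr : IsIrreducible (Set.range q) := by
    have : Set.range q = closure {ω} := by
      rw [hqr]
      exact Set.Subset.antisymm (fun z hz => (hmem z hz).mem_closure)
        (closure_minimal (Set.singleton_subset_iff.mpr hωZ)
          (incl.isClosedEmbedding.isClosed_range.preimage p.continuous))
    rw [this]
    exact isIrreducible_singleton.closure
  haveI : IsClosedImmersion q := by
    have h : q = (pullbackRightPullbackFstIso f g incl).inv ≫ pullback.snd incl (pullback.fst f g) := by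
      apply pullback.hom_ext
      · rw [Category.assoc, pullback.lift_fst, ← pullback.condition, pullbackRightPullbackFstIso_inv_fst_assoc]
      · rw [Category.assoc, pullback.lift_snd, Category.comp_id, pullbackRightPullbackFstIso_inv_snd_snd]
    rw [h]; infer_instance
  haveI : IrreducibleSpace ↥(pullback (incl ≫ f) g) := by
    exact q.isEmbedding.toHomeomorph.irreducibleSpace_iff.mpr (isIrreducible_iff_irreducibleSpace.mp hirr)
  exact GeomIrred.geometricallyIrreducible_of_irreducible_pullback (incl ≫ f) L


theorem e_comp_i {S : Scheme.{u}} (G : Grpd.GroupoidScheme S) : G.e ≫ G.i = G.e := by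
  have h : G.e ≫ G.s = (G.e ≫ G.i) ≫ G.t := by rw [Category.assoc, G.i_t]
  refine ((G.e_comp (G.e ≫ G.i)).symm.trans ?_).trans (?_ : FinGrpdLib.mul G G.e (G.e ≫ G.i) h = G.e)
  · change FinGrpdLib.mul G ((G.e ≫ G.i) ≫ G.t ≫ G.e) (G.e ≫ G.i) (by
      simp only [Category.assoc, G.e_s, Category.comp_id]) = _
    refine FinGrpdLib.mul_congr ?_ rfl _
    rw [Category.assoc, reassoc_of% G.i_t, reassoc_of% G.e_s]
  · refine (G.comp_i G.e).trans ?_
    rw [reassoc_of% G.e_t]

/-- Components through the identity are geometrically irreducible. -/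
theorem geometricallyIrreducible_identity {S : Scheme.{u}} (G : Grpd.GroupoidScheme S) {k : Type u} [Field k]
    (eU : G.U ≅ Spec (CommRingCat.of k)) {Z : Scheme.{u}} (ι : Z ⟶ G.R) [IsClosedImmersion ι]
    (hZ : Set.range ι ∈ irreducibleComponents (G.R : Type u))
    (he : G.e (eU.inv (IsLocalRing.closedPoint k)) ∈ Set.range ι) :
    GeometricallyIrreducible (ι ≫ G.s ≫ eU.hom) := by
  let g := Spec.map (CommRingCat.ofHom (algebraMap k (AlgebraicClosure k)))
  let η : Spec (CommRingCat.of k) ⟶ G.R := eU.inv ≫ G.e
  have hη : η ≫ G.s ≫ eU.hom = 𝟙 _ := by simp only [η, Category.assoc, reassoc_of% G.e_s, eU.inv_hom_id]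
  refine geometricallyIrreducible_component (G.s ≫ eU.hom) η hη ?_ ?_ ι hZ ?_
  · rw [Scheme.Hom.comp_apply]
    exact genDir_identity G eU
  · let c : pullback G.s (g ≫ eU.inv) ⟶ pullback (G.s ≫ eU.hom) g :=
      pullback.map G.s (g ≫ eU.inv) (G.s ≫ eU.hom) g (𝟙 _) (𝟙 _) eU.hom (by simp) (by simp)
    haveI : IsIso c := inferInstanceAs (IsIso (pullback.map _ _ _ _ _ _ _ _ _))
    have h := GenDir.map c (genDir_fibre_identity G eU (g ≫ eU.inv))
    rw [← Scheme.Hom.comp_apply] at h
    have e : (pullback.lift ((g ≫ eU.inv) ≫ G.e) (𝟙 _)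
        (by rw [Category.assoc, G.e_s, Category.comp_id, Category.id_comp]) :
          Spec (CommRingCat.of (AlgebraicClosure k)) ⟶ pullback G.s (g ≫ eU.inv)) ≫ c =
        pullback.lift (g ≫ η) (𝟙 _) (by rw [Category.assoc, hη, Category.comp_id, Category.id_comp]) := by
      apply pullback.hom_ext <;> simp [c, η]
    rw [e] at h
    exact h
  · rw [Scheme.Hom.comp_apply]
    exact he

/-- The same for both structure maps. -/
theorem geometricallyIrreducible_identity_both {S : Scheme.{u}} (G : Grpd.GroupoidScheme S) {k : Type u} [Field k]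
    (eU : G.U ≅ Spec (CommRingCat.of k)) {Z : Scheme.{u}} (ι : Z ⟶ G.R) [IsClosedImmersion ι]
    (hZ : Set.range ι ∈ irreducibleComponents (G.R : Type u))
    (he : G.e (eU.inv (IsLocalRing.closedPoint k)) ∈ Set.range ι) :
    GeometricallyIrreducible (ι ≫ G.s ≫ eU.hom) ∧ GeometricallyIrreducible (ι ≫ G.t ≫ eU.hom) := by
  refine ⟨geometricallyIrreducible_identity G eU ι hZ he, ?_⟩
  haveI := FinGrpdLib.isIso_i G
  have h := geometricallyIrreducible_identity G eU (ι ≫ G.i) (by
    rw [Scheme.Hom.comp_base, TopCat.coe_comp, Set.range_comp]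
    exact image_mem_irreducibleComponents_of_isPreirreducible_fiber G.i G.i.continuous G.i.homeomorph.isOpenMap
      (fun _ => (Set.subsingleton_singleton.preimage G.i.homeomorph.injective).isPreirreducible)
      G.i.homeomorph.surjective hZ) (by
    obtain ⟨z, hz⟩ := he
    exact ⟨z, by rw [Scheme.Hom.comp_apply, hz, ← Scheme.Hom.comp_apply, e_comp_i]⟩)
  simpa only [Category.assoc, reassoc_of% G.i_s] using h

end Groth.Agent.GrpdIrred
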